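import Cfsg.Agent.Spor.ThQ.D0

set_option autoImplicit false
set_option maxRecDepth 100000000
set_option Elab.async false

namespace Cfsg.Agent.Spor.ThQ

theorem sq : PA.sq A = true := by decide +kernel

theorem TTok : PA.gensOk A TT 7 = true := by decide +kernel

theorem c1 : lall (fun w => Nat.beq (PA.evw A TT (lapp w [0]) A.one) (PA.evw A TT (lapp [0] w) A.one)) [[0], [4], [6], [8], [10], [12]] = true := by decide +kernel

theorem c2 : PA.neq A (PA.evw A TT (lapp [2] [0]) A.one) (PA.evw A TT (lapp [0] [2]) A.one) = true := by decide +kernel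

theorem r10 : PA.isW A TT [0, 0] A.one = true := by decide +kernel

theorem r11 : PA.isW A TT [2, 2] A.one = true := by decide +kernel

theorem r12 : PA.isW A TT [4, 4] A.one = true := by decide +kernel

theorem r13 : PA.isW A TT [6, 6] A.one = true := by decide +kernel

theorem r14 : PA.isW A TT [8, 8] A.one = true := by decide +kernel

theorem r15 : PA.isW A TT [0, 2, 0, 2, 0, 2] A.one = true := by decide +kernel

theorem r16 : PA.isW A TT [0, 8, 0, 8] A.one = true := by decide +kernel

theorem r17 : PA.isW A TT [2, 4, 2, 4, 2, 4] A.one = true := by decide +kernel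

theorem r18 : PA.isW A TT [2, 6, 2, 6] A.one = true := by decide +kernel

theorem r19 : PA.isW A TT [2, 8, 2, 8] A.one = true := by decide +kernel

theorem r20 : PA.isW A TT [0, 7, 5, 7, 5, 7, 5, 7, 5] A.one = true := by decide +kernel

theorem r21 : PA.isW A TT [4, 8, 4, 8] A.one = true := by decide +kernel

theorem r22 : PA.isW A TT [6, 8, 6, 8, 6, 8] A.one = true := by decide +kernel

theorem r23 : PA.isW A TT [2, 4, 6, 8, 2, 4, 6, 8, 2, 4, 6, 8, 2, 4, 6, 8, 2, 4, 6, 8, 2, 4, 6, 8, 2, 4, 6, 8, 2, 4, 6, 8] A.one = true := by decide +kernel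

theorem r24 : PA.isW A TT [10, 10, 10, 10, 10, 10, 10] A.one = true := by decide +kernel

theorem r25 : PA.isW A TT [11, 1, 10, 0] A.one = true := by decide +kernel

theorem r26 : PA.isW A TT [11, 3, 10, 2] A.one = true := by decide +kernel

theorem r27 : PA.isW A TT [11, 5, 10, 4] A.one = true := by decide +kernel

theorem r28 : PA.isW A TT [10, 6, 10, 6] A.one = true := by decide +kernel

theorem r29 : PA.isW A TT [9, 11, 8, 11, 11, 9, 10, 10, 10] A.one = true := by decide +kernel

theorem r30 : PA.isW A TT [12, 12, 12] A.one = true := by decide +kernel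

theorem r31 : PA.isW A TT [13, 1, 12, 0] A.one = true := by decide +kernel

theorem r32 : PA.isW A TT [13, 3, 12, 2] A.one = true := by decide +kernel

theorem r33 : PA.isW A TT [13, 5, 12, 4] A.one = true := by decide +kernel

theorem r34 : PA.isW A TT [13, 7, 12, 6] A.one = true := by decide +kernel

theorem r35 : PA.isW A TT [13, 9, 12, 8] A.one = true := by decide +kernel

theorem r36 : PA.isW A TT [13, 10, 12, 11, 11] A.one = true := by decide +kernel

end Cfsg.Agent.Spor.ThQ
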