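import Cfsg.Agent.Spor.PX13
import Cfsg.Agent.Spor.ThD.Grp
import Cfsg.Agent.Spor.ThQ.C0

set_option autoImplicit false
set_option maxRecDepth 100000000
set_option Elab.async false

namespace Cfsg.Agent.Spor.ThQ

theorem hp : ((A.p : ℕ) : ZMod 3) = 0 := by decide
instance instCharP : CharP (ZMod 3) A.p := ZMod.charP 3

noncomputable abbrev Ω : MRep A (ZMod 3) (GL (Fin A.d) (ZMod 3)) := MRep.gl A (ZMod 3) sq hp
theorem presF : Pres 7 0 ThD.RL (Ω.gen TT) :=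
  ⟨fun _ h => absurd h (Nat.not_lt_zero _), (MRep.gl_gens TTok).all_one (show AllP (fun w => PA.isW A TT w A.one = true) [[0, 0], [2, 2], [4, 4], [6, 6], [8, 8], [0, 2, 0, 2, 0, 2], [0, 8, 0, 8], [2, 4, 2, 4, 2, 4], [2, 6, 2, 6], [2, 8, 2, 8], [0, 7, 5, 7, 5, 7, 5, 7, 5], [4, 8, 4, 8], [6, 8, 6, 8, 6, 8], [2, 4, 6, 8, 2, 4, 6, 8, 2, 4, 6, 8, 2, 4, 6, 8, 2, 4, 6, 8, 2, 4, 6, 8, 2, 4, 6, 8, 2, 4, 6, 8], [10, 10, 10, 10, 10, 10, 10], [11, 1, 10, 0], [11, 3, 10, 2], [11, 5, 10, 4], [10, 6, 10, 6], [9, 11, 8, 11, 11, 9, 10, 10, 10], [12, 12, 12], [13, 1, 12, 0], [13, 3, 12, 2], [13, 5, 12, 4], [13, 7, 12, 6], [13, 9, 12, 8], [13, 10, 12, 11, 11]] from AllP.cons r10 (AllP.cons r11 (AllP.cons r12 (AllP.cons r13 (AllP.cons r14 (AllP.cons r15 (AllP.cons r16 (AllP.cons r17 (AllP.cons r18 (AllP.cons r19 (AllP.cons r20 (AllP.cons r21 (AllP.cons r22 (AllP.cons r23 (AllP.cons r24 (AllP.cons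 r25 (AllP.cons r26 (AllP.cons r27 (AllP.cons r28 (AllP.cons r29 (AllP.cons r30 (AllP.cons r31 (AllP.cons r32 (AllP.cons r33 (AllP.cons r34 (AllP.cons r35 (AllP.cons r36 (AllP.nil))))))))))))))))))))))))))))⟩

theorem hom : ∃ ρ : ThD.P →* GL (Fin A.d) (ZMod 3), ∀ j < 7, ρ (ThD.p j) = Ω.gen TT j :=
  ThD.bound.exists_hom (by norm_num) ThD.cert.pres presF ThD.lbP

theorem inj : Function.Injective hom.choose :=
  inj_of_coatom ThD.coatomP ThD.coreP _ (g := ev (atm 7 ThD.p) [2]) (by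
    rw [ev_atm_map' hom.choose_spec, wsub_map hom.choose_spec]
    exact (MRep.gl_gens TTok).not_mem_comm c1 c2)

/-- the representation of degree 25 -/
noncomputable def X : MRep A (ZMod 3) ThD.P := Ω.comp hom.choose inj
theorem gens : X.Gens TT (atm 7 ThD.p) := (MRep.gl_gens TTok).comp inj hom.choose_spec

end Cfsg.Agent.Spor.ThQ
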